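import Cfsg.Agent.Lib.ClassSizesNM.Primes
import Cfsg.Agent.Lib.ClassSizesNM.Nilpotent
import Cfsg.Agent.Lib.BGTypes.HallFusion
import Cfsg.Agent.Lib.CharTheory.Burnside
import Cfsg.Agent.S4125

/-!
Class sizes `{1, p ^ a, q ^ b, p ^ a * q ^ b}` with no `p`-element of class `p ^ a` and no
`q`-element of class `q ^ b`: the group is nilpotent.
-/

set_option autoImplicit false
set_option linter.style.haveILetI false

namespace CfsgLib.ClassSizesNM

open Subgroup CfsgLib.ClassSizes3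

variable {G : Type*} [Group G] [Finite G] {n m p q : ℕ}

omit [Finite G] in
theorem Crossed.symm (h : Crossed G p q n m) : Crossed G q p m n :=
  ⟨h.toPQSizes.symm, h.noQ, h.noP⟩

theorem Crossed.cases_p (h : Crossed G p q n m) {u : G} (hu : PEl p u) (hc : u ∉ center G) :
    cl u = m ∨ cl u = n * m :=
  (h.sizes.cases' hc).resolve_left (h.noP u hu)

theorem Crossed.pair (h : Crossed G p q n m) :
    ∃ x y : G, PEl q x ∧ PEl p y ∧ cl x = n ∧ cl y = m ∧ y ∈ C x := by
  obtain ⟨x1, y1, hx1, hy1, hc⟩ := exists_pair h.sizes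
  obtain ⟨r', x', hr', hxr', hlex, hx'⟩ := exists_primary_n h.sizes hx1
  obtain ⟨t', y', ht', hyt', hley, hy'⟩ := exists_primary_n h.sizes.symm hy1
  obtain rfl : r' = q := (h.toPQSizes.prime_of_noncentral hr' hxr'
    (h.sizes.notMem_center_of_n hx')).resolve_left fun e => h.noP x' (e ▸ hxr') hx'
  obtain rfl : t' = p := (h.toPQSizes.prime_of_noncentral ht' hyt'
    (h.sizes.symm.notMem_center_of_n hy')).resolve_right fun e => h.noQ y' (e ▸ hyt') hy'
  exact ⟨x', y', hxr', hyt', hx', hy', C_comm (hley (C_comm (hlex hc)))⟩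

/-- A normal `p`-subgroup centralizes elements of class prime to `p`. -/
theorem Crossed.core_le (h : Crossed G p q n m) {y : G} (hy : cl y = m) :
    Cfsg.pCore p G ≤ C y := by
  haveI := Fact.mk h.prime_p
  obtain ⟨D, hD⟩ := exists_sylowIn (p := p) (C y)
  obtain ⟨c, -, hc⟩ := (hD.full (show ¬ p ∣ cl y from hy ▸ h.toPQSizes.symm.not_q_dvd_n)).exists_conj
    (CfsgLib.Cores.isPGroup_pCore p G) le_top
  intro a ha
  refine hD.le ?_
  have h1 := hc _ ((inferInstance : (Cfsg.pCore p G).Normal).conj_mem a ha c⁻¹)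
  rwa [show c * (c⁻¹ * a * c⁻¹⁻¹) * c⁻¹ = a by group] at h1

theorem Crossed.fac_nm (h : Crossed G p q n m) {u w : G} (hu : cl u = n * m) (hw : cl w = m) :
    (Nat.card (C u)).factorization q = (Nat.card (C w)).factorization q := by
  have h1 := fac_C u q
  have h2 := fac_C w q
  rw [hu, Nat.factorization_mul (by have := h.sizes.one_lt_n; omega)
    (by have := h.sizes.one_lt_m; omega), Finsupp.add_apply,
    Nat.factorization_eq_zero_of_not_dvd h.toPQSizes.not_q_dvd_n] at h1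
  rw [hw] at h2
  omega

/-- Every `q`-element of class `n` commutes with some `p`-element of class `m`. -/
theorem Crossed.partner (h : Crossed G p q n m) {x : G} (hxq : PEl q x) (hx : cl x = n) :
    ∃ y : G, PEl p y ∧ cl y = m ∧ y ∈ C x := by
  haveI := Fact.mk h.prime_p
  obtain ⟨x0, y0, -, hy0p, hx0, hy0, hc0⟩ := h.pair
  have hf : (Nat.card (C x)).factorization p = (Nat.card (C x0)).factorization p := by
    have h1 := fac_C x p
    have h2 := fac_C x0 p
    rw [hx] at h1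
    rw [hx0] at h2
    omega
  obtain ⟨z, hzx, hzp, hzc⟩ := exists_noncentral_of_fac (center_le_C x0) hf hy0p hc0
    (h.sizes.symm.notMem_center_of_n hy0)
  rcases h.cases_p hzp hzc with hz | hz
  · exact ⟨z, hzp, hz, hzx⟩
  have hle := (le_of_max h.sizes hz (C_comm hzx)
    (PEl.coprime h.prime_p h.prime_q h.ne hzp hxq)).1
  obtain ⟨D, hD, hzD⟩ := exists_sylowIn_ge (H := (⊤ : Subgroup G)) hzp.isPGroup le_top
  obtain ⟨g, hg⟩ := exists_conj_central hD
    (show ¬ p ∣ cl y0 from hy0 ▸ h.toPQSizes.symm.not_q_dvd_n)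
  exact ⟨g * y0 * g⁻¹, hy0p.conj g, by rw [cl_conj, hy0],
    hle (C_comm (hg (hzD (mem_zpowers z))))⟩

/-- A `p`-element of largest class commutes with a `q`-element of class `n`. -/
theorem Crossed.partner_max (h : Crossed G p q n m) {u : G} (hup : PEl p u)
    (hu : cl u = n * m) : ∃ x : G, PEl q x ∧ cl x = n ∧ C u ≤ C x := by
  haveI := Fact.mk h.prime_q
  obtain ⟨x0, y0, hx0q, -, hx0, hy0, hc0⟩ := h.pair
  obtain ⟨w, hwu, hwq, hwc⟩ := exists_noncentral_of_fac (center_le_C y0) (h.fac_nm hu hy0) hx0q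
    (C_comm hc0) (h.sizes.notMem_center_of_n hx0)
  have hco := PEl.coprime h.prime_p h.prime_q h.ne hup hwq
  rcases h.sizes.cases' hwc with hw | hw | hw
  · exact ⟨w, hwq, hw, (le_of_max h.sizes hu hwu hco).1⟩
  · exact absurd hw (h.noQ w hwq)
  have hle : C w ≤ C u := (le_of_max h.sizes hw (C_comm hwu) hco.symm).1
  obtain ⟨D, hD, hwD⟩ := exists_sylowIn_ge (H := (⊤ : Subgroup G)) hwq.isPGroup le_top
  obtain ⟨g, hg⟩ := exists_conj_central hD
    (show ¬ q ∣ cl x0 from hx0 ▸ h.toPQSizes.not_q_dvd_n)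
  exact ⟨g * x0 * g⁻¹, hx0q.conj g, by rw [cl_conj, hx0],
    (le_of_max h.sizes hu (hle (C_comm (hg (hwD (mem_zpowers w)))))
      (PEl.coprime h.prime_p h.prime_q h.ne hup (hx0q.conj g))).1⟩

/-- The Sylow `p`-subgroups of the centralizer of a `q`-element of class `n` are abelian. -/
theorem Crossed.commute_in_C (h : Crossed G p q n m) [hp : Fact p.Prime] {x : G}
    (hxq : PEl q x) (hx : cl x = n) {D : Subgroup G} (hD : SylowIn p (C x) D) {a b : G}
    (ha : a ∈ D) (hb : b ∈ D) : a * b = b * a := by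
  obtain ⟨e, he⟩ := h.pow_m
  set H := C x with hH
  obtain ⟨y, hyp, hy, hyx⟩ := h.partner hxq hx
  have hopt : ∀ z : H, (∃ k : ℕ, orderOf z = p ^ k) →
      (H ≤ C (z : G) ∨ (C (z : G)).relIndex H = m) := by
    rintro z ⟨k, hk⟩
    have hzp : PEl p (z : G) := ⟨k, by rw [← hk, ← orderOf_coe, pow_orderOf_eq_one]⟩
    exact (rel_options h.sizes hx z.2 (PEl.coprime h.prime_q h.prime_p h.ne.symm hxq hzp)).imp
      (·.1) (·.1)
  have hidx : ∀ z : H, (centralizer ({z} : Set H)).index = (C (z : G)).relIndex H := by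
    intro z
    rw [show centralizer ({z} : Set H) = (C (z : G)).subgroupOf H by
      ext a
      rw [mem_subgroupOf, mem_centralizer_singleton_iff, mem_C, Subtype.ext_iff]
      rfl]
    rfl
  obtain ⟨k, hk⟩ := hyp
  obtain ⟨i, -, hi⟩ := (Nat.dvd_prime_pow h.prime_p).mp (orderOf_dvd_of_pow_eq_one hk)
  have hyord : orderOf (⟨y, hyx⟩ : H) = p ^ i := by rw [← orderOf_coe]; exact hi
  have hpH : p ∣ Nat.card H := by
    refine dvd_trans (dvd_pow_self p fun hi0 => ?_) (hyord ▸ _root_.orderOf_dvd_natCard _)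
    rw [hi0, pow_zero, orderOf_eq_one_iff] at hi
    exact h.sizes.symm.notMem_center_of_n hy (hi ▸ one_mem _)
  let P : Sylow p H := Sylow.ofCard (D.subgroupOf H)
    (by rw [Nat.card_congr (subgroupOfEquivOfLe hD.le).toEquiv, hD.card])
  have hbaer : ∀ z : H, (∃ k : ℕ, orderOf z = p ^ k) →
      ∃ (r : ℕ) (j : ℕ), r.Prime ∧ (centralizer ({z} : Set H)).index = r ^ j := by
    intro z hz
    rcases hopt z hz with h1 | h1
    · exact ⟨q, 0, h.prime_q, by rw [hidx, pow_zero, relIndex_eq_one]; exact h1⟩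
    · exact ⟨q, e, h.prime_q, by rw [hidx, h1, he]⟩
  obtain ⟨-, r, hr, hall, -, hab⟩ := Cfsg.Agent.S4125.result p hpH hbaer P
  have hrp : r ≠ p := by
    obtain ⟨j, hj⟩ := hall ⟨y, hyx⟩ ⟨i, hyord⟩
    rw [hidx] at hj
    rcases hopt ⟨y, hyx⟩ ⟨i, hyord⟩ with h1 | h1
    · exact absurd (hy ▸ hx ▸ cl_dvd_of_le h1) h.sizes.not_dvd
    · rintro rfl
      have hd : r ∣ m := by
        rw [← h1, hj]
        refine dvd_pow_self r fun hj0 => ?_
        rw [hj0, pow_zero, h1] at hj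
        have := h.sizes.one_lt_m
        omega
      exact h.toPQSizes.symm.not_q_dvd_n hd
  exact congrArg Subtype.val (congrArg Subtype.val
    ((hab hrp).1.is_comm.comm ⟨⟨a, hD.le ha⟩, ha⟩ ⟨⟨b, hD.le hb⟩, hb⟩))

/-- If `O_p(G) ≤ C(x)`, the `p`-elements of `C(x)` centralize `O_p(G)`. -/
theorem Crossed.commute_core (h : Crossed G p q n m) {x : G} (hxq : PEl q x) (hx : cl x = n)
    (hR : Cfsg.pCore p G ≤ C x) {u : G} (hup : PEl p u) (hux : u ∈ C x) :
    Cfsg.pCore p G ≤ C u := by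
  haveI := Fact.mk h.prime_p
  obtain ⟨D, hD, hle⟩ := exists_sylowIn_ge
    (hup.isPGroup.to_sup_of_normal_right (CfsgLib.Cores.isPGroup_pCore p G))
    (sup_le (zpowers_le.mpr hux) hR)
  exact fun a ha => mem_C.mpr
    (h.commute_in_C hxq hx hD (hle (mem_sup_right ha)) (hle (mem_sup_left (mem_zpowers u))))

omit [Finite G] in
/-- A shift `x g x⁻¹ = g t` with `t` fixed by `x` and of coprime order is trivial. -/
theorem eq_one_of_shift {p q : ℕ} (hp : p.Prime) (hq : q.Prime) (hpq : p ≠ q) {x g t : G}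
    (hx : PEl q x) (ht : PEl p t) (hfix : t ∈ C x) (h : x * g * x⁻¹ = g * t) : t = 1 := by
  have hiter : ∀ i : ℕ, x ^ i * g * (x ^ i)⁻¹ = g * t ^ i := by
    intro i
    induction i with
    | zero => simp
    | succ i ih =>
      calc x ^ (i + 1) * g * (x ^ (i + 1))⁻¹ = x * (x ^ i * g * (x ^ i)⁻¹) * x⁻¹ := by
            rw [pow_succ']; group
        _ = (x * g * x⁻¹) * (x * t ^ i * x⁻¹) := by rw [ih]; group
        _ = g * t * t ^ i := by
            rw [h, (((show Commute t x from mem_C.mp hfix).pow_left i).symm).eq,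
              mul_inv_cancel_right]
        _ = g * t ^ (i + 1) := by rw [pow_succ', mul_assoc]
  obtain ⟨k, hk⟩ := hx
  refine PEl.eq_one hp hq hpq ht ⟨k, ?_⟩
  have := hiter (q ^ k)
  rw [hk, one_mul, inv_one, mul_one] at this
  exact left_eq_mul.mp this

/-- Thompson's argument. -/
theorem core_le_of_fixed (hp : p.Prime) (hq : q.Prime) (hpq : p ≠ q) {x r : G} (hx : PEl q x)
    (hr : r ∈ Cfsg.pCore p G) (hrx : r ∈ C x) (hfix : Cfsg.pCore p G ⊓ C r ≤ C x) :
    Cfsg.pCore p G ≤ C x := by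
  haveI := Fact.mk hp
  set R := Cfsg.pCore p G with hR
  have hRn : R.Normal := inferInstance
  haveI : Group.IsNilpotent R := (CfsgLib.Cores.isPGroup_pCore p G).isNilpotent
  by_contra hne
  obtain ⟨g, hgN, hgA⟩ := SetLike.exists_of_lt (Group.normalizerCondition_of_isNilpotent
    ((C x).subgroupOf R) (lt_top_iff_ne_top.mpr (mt subgroupOf_eq_top.mp hne)))
  have h1 : (g : G) * r * (g : G)⁻¹ ∈ C x :=
    mem_subgroupOf.mp ((mem_normalizer_iff.mp hgN ⟨r, hr⟩).mp (mem_subgroupOf.mpr hrx))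
  set t := (g : G)⁻¹ * (x * g * x⁻¹) with ht
  have htR : t ∈ R := mul_mem (inv_mem g.2) (hRn.conj_mem _ g.2 x)
  have htr : t ∈ C r := by
    refine mem_C.mpr (mul_inv_eq_iff_eq_mul.mp ?_)
    have hxr : x⁻¹ * r * x = r := by rw [mul_assoc, mem_C.mp hrx, inv_mul_cancel_left]
    calc t * r * t⁻¹ = (g : G)⁻¹ * (x * (g * (x⁻¹ * r * x) * (g : G)⁻¹) * x⁻¹) * g := by
          rw [ht]; group
      _ = (g : G)⁻¹ * (x * ((g : G) * r * (g : G)⁻¹) * x⁻¹) * g := by rw [hxr]
      _ = (g : G)⁻¹ * ((g : G) * r * (g : G)⁻¹) * g := by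
          rw [← mem_C.mp h1, mul_inv_cancel_right]
      _ = r := by group
  have htx := hfix ⟨htR, htr⟩
  have ht1 : t = 1 := eq_one_of_shift (g := (g : G)) hp hq hpq hx
    (PEl.of_mem_pgroup (CfsgLib.Cores.isPGroup_pCore p G) htR) htx
    (by rw [ht, mul_inv_cancel_left])
  refine hgA (mem_subgroupOf.mpr (mem_C.mpr ?_))
  rw [ht, inv_mul_eq_one] at ht1
  exact (mul_inv_eq_iff_eq_mul.mp ht1.symm).symm

/-- `O_p(G)` is abelian. -/
theorem Crossed.core_comm (h : Crossed G p q n m) {a b : G} (ha : a ∈ Cfsg.pCore p G)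
    (hb : b ∈ Cfsg.pCore p G) : a * b = b * a := by
  have hap := PEl.of_mem_pgroup (CfsgLib.Cores.isPGroup_pCore p G) ha
  by_cases hac : a ∈ center G
  · exact (mem_center_iff.mp hac b).symm
  rcases h.cases_p hap hac with h1 | h1
  · exact (mem_C.mp (h.core_le h1 hb)).symm
  · obtain ⟨x, hxq, hx, hle⟩ := h.partner_max hap h1
    have hax := hle (self_mem_C a)
    have hR : Cfsg.pCore p G ≤ C x :=
      core_le_of_fixed h.prime_p h.prime_q h.ne hxq ha hax (inf_le_right.trans hle)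
    exact (mem_C.mp (h.commute_core hxq hx hR hap hax hb)).symm

omit [Finite G] in
/-- All conjugates of an element commute with `x` if it does and the class sizes are coprime. -/
theorem conj_mem_of_product {x y g : G} (hc : y ∈ C x) {s e : G} (hs : s ∈ C y) (he : e ∈ C x)
    (hg : g⁻¹ = s * e) : g * y * g⁻¹ ∈ C x := by
  rw [show g = e⁻¹ * s⁻¹ by rw [← mul_inv_rev, ← hg, inv_inv],
    show e⁻¹ * s⁻¹ * y * (e⁻¹ * s⁻¹)⁻¹ = e⁻¹ * (s⁻¹ * (y * s)) * e by group,
    ← mem_C.mp hs, inv_mul_cancel_left]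
  exact mul_mem (mul_mem (inv_mem he) hc) he

theorem Crossed.conj_partner (h : Crossed G p q n m) {x y : G} (hx : cl x = n) (hy : cl y = m)
    (hc : y ∈ C x) (g : G) : g * y * g⁻¹ ∈ C x := by
  haveI := Fact.mk h.prime_p
  obtain ⟨D, hD⟩ := exists_sylowIn (p := p) (C y)
  obtain ⟨a, ha⟩ := h.pow_n
  obtain ⟨s, hs, e, he, hge⟩ := exists_mul_of_index (H := C x) le_top
    (hD.full (show ¬ p ∣ cl y from hy ▸ h.toPQSizes.symm.not_q_dvd_n))
    ⟨a, by rw [relIndex_top_right]; exact hx.trans ha⟩ (mem_top g⁻¹)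
  exact conj_mem_of_product hc (hD.le hs) he hge

/-- Centralizers of large index in `q`-part meet a Sylow `q`-subgroup in a large subgroup. -/
theorem Crossed.card_inf_ge (h : Crossed G p q n m) [Fact q.Prime] {Q H : Subgroup G}
    (hQ : SylowIn q ⊤ Q) (hQH : Q ≤ H) {v : G} (hd : (C v).relIndex H ≤ m) {y : G}
    (hy : cl y = m) :
    q ^ (Nat.card (C y)).factorization q ≤ Nat.card (Q ⊓ C v : Subgroup G) := by
  obtain ⟨b, hb⟩ := h.pow_m
  have h1 := relIndex_mul_relIndex ⊥ (Q ⊓ C v) Q bot_le inf_le_left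
  rw [relIndex_bot_left, relIndex_bot_left, inf_relIndex_left, hQ.card, card_top] at h1
  have h2 : (C v).relIndex Q ≤ m :=
    (relIndex_le_of_le_right hQH index_ne_zero_of_finite).trans hd
  have h3 := fac_C y q
  rw [hy, hb, h.prime_q.factorization_pow, Finsupp.single_eq_same] at h3
  rw [← h3, pow_add, ← hb] at h1
  refine Nat.le_of_mul_le_mul_right ?_ (show 0 < m by have := h.sizes.one_lt_m; omega)
  rw [← h1]
  exact Nat.mul_le_mul_left _ h2

/-- The key computation. -/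
theorem Crossed.key (h : Crossed G p q n m) [Fact q.Prime] {x y r0 : G} (hxq : PEl q x)
    (hy : cl y = m) (hyp : PEl p y) (hc : y ∈ C x) {Q : Subgroup G}
    (hQ : SylowIn q ⊤ Q) (hQx : Q ≤ C x) (hxQ : x ∈ Q) (hr0 : r0 ∈ Cfsg.pCore p G)
    (hbound : q ^ (Nat.card (C y)).factorization q ≤
      Nat.card (Q ⊓ C (y * (r0⁻¹ * (x * r0 * x⁻¹))) : Subgroup G)) : r0 ∈ C x := by
  set R := Cfsg.pCore p G with hR
  have hRn : R.Normal := inferInstance
  set r := r0⁻¹ * (x * r0 * x⁻¹) with hr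
  have hrR : r ∈ R := mul_mem (inv_mem hr0) (hRn.conj_mem _ hr0 x)
  have hRp : ∀ a ∈ R, PEl p a := fun a ha =>
    PEl.of_mem_pgroup (CfsgLib.Cores.isPGroup_pCore p G) ha
  have hfix : ∀ g ∈ Q ⊓ C (y * r), g ∈ C y ∧ g ∈ C r := by
    rintro g ⟨hgQ, hgv⟩
    have hgx := hQx hgQ
    set s := r0 * (g * r0 * g⁻¹)⁻¹ with hs
    have hsR : s ∈ R := mul_mem hr0 (inv_mem (hRn.conj_mem _ hr0 g))
    set t := y⁻¹ * (g * y * g⁻¹) with ht
    have e1 : t = r * (g * r * g⁻¹)⁻¹ := by
      have h2 : g * y * g⁻¹ * (g * r * g⁻¹) = y * r := by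
        rw [show g * y * g⁻¹ * (g * r * g⁻¹) = g * (y * r) * g⁻¹ by group, mem_C.mp hgv,
          mul_inv_cancel_right]
      rw [ht, eq_mul_inv_iff_mul_eq, mul_assoc, h2, inv_mul_cancel_left]
    have htC : t ∈ C x := mul_mem (inv_mem hc) (mul_mem (mul_mem hgx hc) (inv_mem hgx))
    have e2 : x * s * x⁻¹ = s * t := by
      have hxg : g * x * g⁻¹ = x := by rw [mem_C.mp hgx, mul_inv_cancel_right]
      have e3 : x * (g * r0 * g⁻¹) * x⁻¹ = (g * r0 * g⁻¹) * (g * r * g⁻¹) := by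
        conv_lhs => rw [← hxg]
        rw [hr]; group
      have e4 : x * r0 * x⁻¹ = r0 * r := by rw [hr, mul_inv_cancel_left]
      have hcom : ∀ a ∈ R, ∀ b ∈ R, Commute a b := fun a ha b hb => h.core_comm ha hb
      have hgR : ∀ a ∈ R, g * a * g⁻¹ ∈ R := fun a ha => hRn.conj_mem _ ha g
      calc x * s * x⁻¹ = (x * r0 * x⁻¹) * (x * (g * r0 * g⁻¹) * x⁻¹)⁻¹ := by rw [hs]; group
        _ = r0 * (r * (g * r * g⁻¹)⁻¹) * (g * r0 * g⁻¹)⁻¹ := by rw [e3, e4]; group
        _ = r0 * ((g * r0 * g⁻¹)⁻¹ * (r * (g * r * g⁻¹)⁻¹)) := by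
            rw [mul_assoc, (hcom _ (mul_mem hrR (inv_mem (hgR r hrR))) _
              (inv_mem (hgR r0 hr0))).eq]
        _ = s * t := by rw [hs, e1]; group
    have ht1 : t = 1 := eq_one_of_shift h.prime_p h.prime_q h.ne hxq
      (hRp t (e1 ▸ mul_mem hrR (inv_mem (hRn.conj_mem _ hrR g)))) htC e2
    refine ⟨mem_C.mpr ?_, mem_C.mpr ?_⟩
    · rw [ht, inv_mul_eq_one] at ht1
      rw [← mul_inv_eq_iff_eq_mul]
      exact ht1.symm
    · rw [e1, mul_inv_eq_one] at ht1
      rw [← mul_inv_eq_iff_eq_mul]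
      exact ht1.symm
  have he : Q ⊓ C (y * r) = Q ⊓ C y :=
    eq_of_le_of_card_ge (fun g hg => ⟨hg.1, (hfix g hg).1⟩)
      ((card_le_of_isPGroup (hQ.isPGroup.to_le inf_le_left) inf_le_right).trans hbound)
  have hxr : r ∈ C x := C_comm (hfix x (he ▸ ⟨hxQ, C_comm hc⟩)).2
  have hr1 : r = 1 := eq_one_of_shift h.prime_p h.prime_q h.ne hxq (hRp r hrR) hxr
    (show x * r0 * x⁻¹ = r0 * r by rw [hr, mul_inv_cancel_left])
  rw [hr, inv_mul_eq_one] at hr1
  exact mem_C.mpr (mul_inv_eq_iff_eq_mul.mp hr1.symm).symm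

/-- Every `q`-element of class `n` centralizes `O_p(G)`. -/
theorem Crossed.core_le_n (h : Crossed G p q n m) {x : G} (hxq : PEl q x) (hx : cl x = n) :
    Cfsg.pCore p G ≤ C x := by
  haveI := Fact.mk h.prime_q
  set R := Cfsg.pCore p G with hR
  have hRn : R.Normal := inferInstance
  obtain ⟨Q, hQC, hxQ'⟩ := exists_sylowIn_ge (H := C x) hxq.isPGroup
    (zpowers_le.mpr (self_mem_C x))
  have hxQ : x ∈ Q := hxQ' (mem_zpowers x)
  have hQ : SylowIn q ⊤ Q := hQC.full (show ¬ q ∣ cl x from hx ▸ h.toPQSizes.not_q_dvd_n)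
  obtain ⟨y, hyp, hy, hc⟩ := h.partner hxq hx
  intro r0 hr0
  set r := r0⁻¹ * (x * r0 * x⁻¹) with hr
  have hrR : r ∈ R := mul_mem (inv_mem hr0) (hRn.conj_mem _ hr0 x)
  have hrp := PEl.of_mem_pgroup (CfsgLib.Cores.isPGroup_pCore p G) hrR
  by_cases hv : cl (y * r) = n * m
  swap
  · refine h.key hxq hy hyp hc hQ hQC.le hxQ hr0 (h.card_inf_ge hQ le_top ?_ hy)
    rw [relIndex_top_right]
    change cl (y * r) ≤ m
    have hvp : PEl p (y * r) := hyp.mul hrp (mem_C.mp (h.core_le hy hrR)).symm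
    rcases h.sizes.cases (y * r) with e | e | e | e
    · rw [e]; exact h.sizes.one_lt_m.le
    · exact absurd e (h.noP _ hvp)
    · exact e.le
    · exact absurd e hv
  have hvp : PEl p (y * r) := hyp.mul hrp (mem_C.mp (h.core_le hy hrR)).symm
  obtain ⟨z0, hz0q, hz0, hle⟩ := h.partner_max hvp hv
  have hRz : R ≤ C z0 := fun a ha => hle (mem_C.mpr
    ((show Commute a y from mem_C.mp (h.core_le hy ha)).mul_right (h.core_comm ha hrR)).eq)
  have hyv : y ∈ C (y * r) := mem_C.mpr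
    ((Commute.refl y).mul_right (show Commute r y from mem_C.mp (h.core_le hy hrR)).symm).eq
  have hyz : y ∈ C z0 := hle hyv
  obtain ⟨g, hg⟩ := exists_conj_central hQ
    (show ¬ q ∣ cl z0 from hz0 ▸ h.toPQSizes.not_q_dvd_n)
  have hz : cl (g * z0 * g⁻¹) = n := by rw [cl_conj, hz0]
  have hy1 : cl (g * y * g⁻¹) = m := by rw [cl_conj, hy]
  have hv1p : PEl p (g * y * g⁻¹ * r) :=
    (hyp.conj g).mul hrp (mem_C.mp (h.core_le hy1 hrR)).symm
  have hv1z : g * y * g⁻¹ * r ∈ C (g * z0 * g⁻¹) := mul_mem (conj_mem_conj hyz)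
    (mem_C_conj.mpr (hRz (by simpa using hRn.conj_mem r hrR g⁻¹)))
  refine h.key hxq hy1 (hyp.conj g) (h.conj_partner hx hy hc g) hQ hQC.le hxQ hr0
    (h.card_inf_ge hQ hg ?_ hy1)
  rcases rel_options h.sizes hz hv1z
    (PEl.coprime h.prime_q h.prime_p h.ne.symm (hz0q.conj g) hv1p) with ⟨h1, -⟩ | ⟨h1, -⟩
  · rw [relIndex_eq_one.mpr h1]; exact h.sizes.one_lt_m.le
  · exact h1.le

/-- Every `p`-element centralizes `O_p(G)`. -/
theorem Crossed.core_le_p (h : Crossed G p q n m) {u : G} (hup : PEl p u) :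
    Cfsg.pCore p G ≤ C u := by
  by_cases huc : u ∈ center G
  · rw [C_eq_top.mpr huc]; exact le_top
  rcases h.cases_p hup huc with hu | hu
  · exact h.core_le hu
  · obtain ⟨x, hxq, hx, hle⟩ := h.partner_max hup hu
    exact h.commute_core hxq hx (h.core_le_n hxq hx) hup (hle (self_mem_C u))

theorem Crossed.isSolvable (h : Crossed G p q n m) : Group.IsSolvable G := by
  haveI : Group.IsSolvable (center G) := Group.isSolvable_of_comm fun a b =>
    Subtype.ext (mem_center_iff.mp b.2 a)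
  have hd : Nat.card (G ⧸ center G) ∣
      p ^ (Nat.card G).factorization p * q ^ (Nat.card G).factorization q := by
    have hpos : p ^ (Nat.card G).factorization p * q ^ (Nat.card G).factorization q ≠ 0 :=
      Nat.mul_ne_zero (pow_ne_zero _ h.prime_p.ne_zero) (pow_ne_zero _ h.prime_q.ne_zero)
    refine (Nat.factorization_le_iff_dvd Nat.card_pos.ne' hpos).mp fun r => ?_
    rw [Nat.factorization_mul (pow_ne_zero _ h.prime_p.ne_zero) (pow_ne_zero _ h.prime_q.ne_zero),
      h.prime_p.factorization_pow, h.prime_q.factorization_pow, Finsupp.add_apply,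
      Finsupp.single_apply, Finsupp.single_apply]
    have hle : (Nat.card (G ⧸ center G)).factorization r ≤ (Nat.card G).factorization r :=
      (Nat.factorization_le_iff_dvd Nat.card_pos.ne' Nat.card_pos.ne').mpr
        (card_quotient_dvd_card _) r
    by_cases hrp : r = p
    · subst hrp
      rw [if_pos rfl]
      omega
    by_cases hrq : r = q
    · subst hrq
      rw [if_pos rfl]
      omega
    rw [if_neg (Ne.symm hrp), if_neg (Ne.symm hrq)]
    by_cases hr : r.Prime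
    swap
    · rw [Nat.factorization_eq_zero_of_not_prime _ hr]
      exact Nat.zero_le _
    haveI := Fact.mk hr
    obtain ⟨D, hD⟩ := exists_sylowIn (p := r) (⊤ : Subgroup G)
    have hDc : D ≤ center G := fun a ha =>
      h.toPQSizes.others hr hrp hrq (PEl.of_mem_pgroup hD.isPGroup ha)
    have h1 := card_dvd_of_le hDc
    rw [hD.card, card_top] at h1
    have h2 := (hr.pow_dvd_iff_le_factorization Nat.card_pos.ne').mp h1
    have h3 := congrArg (fun k => k.factorization r)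
      (card_eq_card_quotient_mul_card_subgroup (center G))
    simp only [Nat.factorization_mul Nat.card_pos.ne' Nat.card_pos.ne', Finsupp.add_apply] at h3
    omega
  haveI := CfsgLib.CharTheory.isSolvable_of_card_dvd_pow_mul_pow p q _ _ h.prime_p h.prime_q hd
  exact Group.isSolvable_of_ker_le_range (center G).subtype (QuotientGroup.mk' (center G))
    (by rw [QuotientGroup.ker_mk', range_subtype])

/-- An element centralizing `O_p(G)` and `O_q(G)` lies in the Fitting subgroup. -/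
theorem Crossed.mem_fitting (h : Crossed G p q n m) {a : G} (h1 : Cfsg.pCore p G ≤ C a)
    (h2 : Cfsg.pCore q G ≤ C a) : a ∈ Cfsg.fittingSubgroup G := by
  haveI := h.isSolvable
  have hle : Cfsg.fittingSubgroup G ≤ C a := by
    rw [CfsgLib.Cores.fittingSubgroup_eq_iSup_pCore, iSup_le_iff]
    rintro ⟨r, hr⟩ b hb
    by_cases hrp : r = p
    · subst hrp
      exact h1 hb
    by_cases hrq : r = q
    · subst hrq
      exact h2 hb
    haveI := Fact.mk (Nat.prime_of_mem_primeFactors hr)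
    exact center_le_C a (h.toPQSizes.others Fact.out hrp hrq
      (PEl.of_mem_pgroup (CfsgLib.Cores.isPGroup_pCore r G) hb))
  exact CfsgLib.Cores.centralizer_fittingSubgroup_le
    (mem_centralizer_iff.mpr fun b hb => mem_C.mp (hle hb))

/-- Every `p`-element centralizes `O_q(G)`. -/
theorem Crossed.other_core_le (h : Crossed G p q n m) {u : G} (hup : PEl p u) :
    Cfsg.pCore q G ≤ C u := by
  haveI := Fact.mk h.prime_p
  haveI := Fact.mk h.prime_q
  obtain ⟨x0, y0, -, hy0p, hx0, hy0, -⟩ := h.pair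
  by_cases huc : u ∈ center G
  · rw [C_eq_top.mpr huc]; exact le_top
  rcases h.cases_p hup huc with hu | hu
  · exact h.symm.core_le_n hup hu
  obtain ⟨Qu, hQu⟩ := exists_sylowIn (p := q) (C u)
  by_cases hle : Qu ≤ Cfsg.pCore q G
  · have he : Qu = Cfsg.pCore q G := eq_of_le_of_card_ge hle (by
      rw [hQu.card, h.fac_nm hu hy0]
      exact card_le_of_isPGroup (CfsgLib.Cores.isPGroup_pCore q G)
        (h.symm.core_le_n hy0p hy0))
    exact he ▸ hQu.le
  obtain ⟨v, hvQ, hvS⟩ := SetLike.not_le_iff_exists.mp hle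
  have hvq := PEl.of_mem_pgroup hQu.isPGroup hvQ
  have hco := PEl.coprime h.prime_p h.prime_q h.ne hup hvq
  have hnot : ¬ (Cfsg.pCore p G ≤ C v ∧ Cfsg.pCore q G ≤ C v) := by
    rintro ⟨h1, h2⟩
    obtain ⟨k, hk⟩ := hvq
    obtain ⟨i, -, hi⟩ := (Nat.dvd_prime_pow h.prime_q).mp (orderOf_dvd_of_pow_eq_one hk)
    exact hvS (CfsgLib.BGTypes.HallFusion.mem_pCore_of_mem_fitting (h.mem_fitting h1 h2) hi)
  by_cases hvc : v ∈ center G
  · exact absurd ⟨by rw [C_eq_top.mpr hvc]; exact le_top,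
      by rw [C_eq_top.mpr hvc]; exact le_top⟩ hnot
  rcases h.symm.cases_p hvq hvc with hv | hv
  · exact absurd ⟨h.core_le_n hvq hv, h.symm.core_le hv⟩ hnot
  · rw [mul_comm m n] at hv
    exact (h.symm.core_le_p hvq).trans (le_of_max h.sizes hv (C_comm (hQu.le hvQ)) hco.symm).1

/-- The group is nilpotent. -/
theorem Crossed.isNilpotent (h : Crossed G p q n m) : Group.IsNilpotent G := by
  rw [← CfsgLib.Cores.fittingSubgroup_eq_top_iff, eq_top_iff]
  intro g _
  by_contra hg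
  obtain ⟨r, w, hr, hw, -, hwF⟩ := exists_pel_notMem _ hg
  refine hwF ?_
  by_cases hwc : w ∈ center G
  · exact h.mem_fitting (by rw [C_eq_top.mpr hwc]; exact le_top)
      (by rw [C_eq_top.mpr hwc]; exact le_top)
  rcases h.toPQSizes.prime_of_noncentral hr hw hwc with rfl | rfl
  · exact h.mem_fitting (h.core_le_p hw) (h.other_core_le hw)
  · exact h.mem_fitting (h.symm.other_core_le hw) (h.symm.core_le_p hw)

end CfsgLib.ClassSizesNM
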