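import Cfsg.Agent.Lib.ClassSizesNM.Basic
import Cfsg.Agent.S4033

/-!
Class sizes `{1, n, m, n * m}` with `n, m` coprime: `n` and `m` are prime powers.
-/

set_option autoImplicit false
set_option linter.style.haveILetI false

namespace CfsgLib.ClassSizesNM

open Subgroup CfsgLib.ClassSizes3

variable {G : Type*} [Group G] [Finite G] {n m : ℕ}

/-- Some element of class size `n` commutes with one of class size `m`. -/
theorem exists_pair (hs : Type4 G n m) :
    ∃ x y : G, cl x = n ∧ cl y = m ∧ y ∈ C x := by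
  by_contra hno
  push Not at hno
  obtain ⟨g, hg⟩ := hs.exists_nm
  obtain ⟨x0, hx0⟩ := hs.exists_n
  obtain ⟨p, x, hp, hxp, -, hx⟩ := exists_primary_n hs hx0
  obtain ⟨y0, hy0⟩ := hs.exists_m
  obtain ⟨q, y, hq, hyq, -, hy⟩ := exists_primary_n hs.symm hy0
  have hpm : p ∣ m := by
    by_contra hd
    haveI := Fact.mk hp
    obtain ⟨D, hD⟩ := exists_sylowIn (p := p) (C y)
    obtain ⟨c, -, hc⟩ := (hD.full (show ¬ p ∣ cl y from hy ▸ hd)).conj_mem hxp (mem_top _)
    exact hno (c * x * c⁻¹) y (by rw [cl_conj, hx]) hy (C_comm (hD.le hc))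
  have hqn : q ∣ n := by
    by_contra hd
    haveI := Fact.mk hq
    obtain ⟨D, hD⟩ := exists_sylowIn (p := q) (C x)
    obtain ⟨c, -, hc⟩ := (hD.full (show ¬ q ∣ cl x from hx ▸ hd)).conj_mem hyq (mem_top _)
    exact hno x (c * y * c⁻¹) hx (by rw [cl_conj, hy]) (hD.le hc)
  have hpq : p ≠ q := fun h => hp.ne_one
    (Nat.dvd_one.mp (hs.coprime ▸ Nat.dvd_gcd (h ▸ hqn) hpm))
  obtain ⟨w, ⟨hwx, hwy⟩, hwc⟩ : ∃ w ∈ C x ⊓ C y, w ∉ center G := by
    by_contra hall
    push Not at hall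
    have hgc : g ∉ center G := fun h => by
      rw [← cl_eq_one, hg] at h
      exact absurd (Nat.eq_one_of_mul_eq_one_left h) (by have := hs.one_lt_m; omega)
    have h2 : (C x ⊓ C y).index ≤ n * m := (index_inf_le).trans (le_of_eq (by
      rw [← hx, ← hy]; rfl))
    have h3 := card_mul_index (C x ⊓ C y)
    have h4 := card_C_mul_cl g
    rw [hg] at h4
    have h5 : Nat.card (C g) ≤ Nat.card (C x ⊓ C y : Subgroup G) := by
      have h6 : Nat.card (C g) * (n * m) ≤ Nat.card (C x ⊓ C y : Subgroup G) * (n * m) := by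
        rw [h4, ← h3]
        exact Nat.mul_le_mul_left _ h2
      exact Nat.le_of_mul_le_mul_right h6 (Nat.mul_pos (by have := hs.one_lt_n; omega) (by have := hs.one_lt_m; omega))
    exact hgc ((eq_of_le_of_card_ge (center_le_C g) (h5.trans (card_le_of_le hall))).symm.le
      (self_mem_C g))
  obtain ⟨r, v, hr, hv, hvz, hvc⟩ := exists_pel_notMem (center G) hwc
  have hvx : v ∈ C x := zpowers_le.mpr hwx hvz
  have hvy : v ∈ C y := zpowers_le.mpr hwy hvz
  rcases hs.cases' hvc with h | h | h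
  · exact hno v y h hy (C_comm hvy)
  · exact hno x v hx h hvx
  by_cases hrp : r = p
  · have hco := PEl.coprime hr hq (hrp ▸ hpq) hv hyq
    exact hno x y hx hy (C_comm ((le_of_max hs h (C_comm hvy) hco).1 (C_comm hvx)))
  · have hco := PEl.coprime hr hp hrp hv hxp
    exact hno x y hx hy ((le_of_max hs h (C_comm hvx) hco).1 (C_comm hvy))

/-- The structure of the centralizer of a primary element of class `n`. -/
theorem centralizer_structure (hs : Type4 G n m) {p : ℕ} (hp : p.Prime) {x : G} (hxp : PEl p x)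
    (hx : cl x = n) {z₀ : G} (hz₀ : z₀ ∈ C x) (hz₀r : (orderOf z₀).Coprime p)
    (hz₀n : ¬ C x ≤ C z₀) :
    (∀ r : ℕ, r.Prime → r ∣ m → r = p) ∨
    ∃ s : ℕ, s.Prime ∧ s ≠ p ∧ (∀ r : ℕ, r.Prime → r ∣ m → r = p ∨ r = s) ∧
      ∀ r : ℕ, r.Prime → r ≠ p → r ≠ s → ∀ w ∈ C x, PEl r w → C x ≤ C w := by
  classical
  set H := C x with hH
  have hidx : ∀ z : H, (centralizer ({z} : Set H)).index = (C (z : G)).relIndex H := by
    intro z
    rw [show centralizer ({z} : Set H) = (C (z : G)).subgroupOf H by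
      ext a
      rw [mem_subgroupOf, mem_centralizer_singleton_iff, mem_C, Subtype.ext_iff]
      rfl]
    rfl
  have hopt : ∀ z : H, (orderOf z).Coprime p →
      (H ≤ C (z : G) ∧ (centralizer ({z} : Set H)).index = 1) ∨
        (centralizer ({z} : Set H)).index = m := by
    intro z hz
    rw [← orderOf_coe] at hz
    rcases rel_options hs hx z.2 (PEl.coprime_of_reg hxp hz) with ⟨h, -⟩ | ⟨h, -⟩
    · exact .inl ⟨h, by rw [hidx, relIndex_eq_one]; exact h⟩
    · exact .inr (by rw [hidx, h])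
  have hz0r : (orderOf (⟨z₀, hz₀⟩ : H)).Coprime p := by rwa [← orderOf_coe]
  have hz0m : (centralizer ({(⟨z₀, hz₀⟩ : H)} : Set H)).index = m :=
    (hopt _ hz0r).resolve_left fun h => hz₀n h.1
  have h2 : Set.ncard (Set.range fun z : {z : H // (orderOf z).Coprime p} =>
      (ConjClasses.mk (z : H)).carrier.ncard) = 2 := by
    rw [show (Set.range fun z : {z : H // (orderOf z).Coprime p} =>
        (ConjClasses.mk (z : H)).carrier.ncard) = ({1, m} : Set ℕ) from ?_]
    · exact Set.ncard_pair (by have := hs.one_lt_m; omega)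
    ext k
    constructor
    · rintro ⟨⟨z, hz⟩, rfl⟩
      dsimp only
      rw [Cfsg.Agent.S4033.carrier_ncard]
      rcases hopt z hz with ⟨-, h⟩ | h
      · exact .inl h
      · exact .inr h
    · rintro (rfl | rfl)
      · refine ⟨⟨1, by simp⟩, ?_⟩
        dsimp only
        rw [Cfsg.Agent.S4033.carrier_ncard, index_eq_one, eq_top_iff]
        exact fun a _ => mem_centralizer_singleton_iff.mpr (by simp)
      · refine ⟨⟨⟨z₀, hz₀⟩, hz0r⟩, ?_⟩
        dsimp only
        rw [Cfsg.Agent.S4033.carrier_ncard]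
        exact hz0m
  rcases Cfsg.Agent.S4033.result hp h2 with ⟨K, hK, hKp, k, hKk⟩ |
    ⟨s, hsF, P, Q, A, hsp, hA, hcard, hN, hinf, hsup⟩
  · left
    by_cases hex : ∃ z ∈ K, (centralizer ({z} : Set H)).index = m
    · obtain ⟨z, hzK, hzm⟩ := hex
      intro r hr hrm
      have hle : K ≤ centralizer ({z} : Set H) := fun a ha => mem_centralizer_singleton_iff.mpr
        (congrArg Subtype.val (hK.is_comm.comm ⟨a, ha⟩ ⟨z, hzK⟩))
      have hd : r ∣ p ^ k := hKk ▸ hrm.trans (hzm ▸ index_dvd_of_le hle)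
      exact (Nat.prime_dvd_prime_iff_eq hr hp).mp (hr.dvd_of_dvd_pow hd)
    · exfalso
      push Not at hex
      have hKz : K ≤ center H := by
        intro a ha
        have har : (orderOf a).Coprime p :=
          ((hp.coprime_iff_not_dvd.mpr hKp).symm).coprime_dvd_left
            (Subgroup.orderOf_dvd_natCard _ ha)
        rcases hopt a har with ⟨h, -⟩ | h
        · exact mem_center_iff.mpr fun b => Subtype.ext (mem_C.mp (h b.2))
        · exact absurd h (hex a ha)
      haveI hKn : K.Normal := ⟨fun a ha b => by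
        rw [mem_center_iff.mp (hKz ha) b, mul_inv_cancel_right]; exact ha⟩
      have hmem : (⟨z₀, hz₀⟩ : H) ∈ K := by
        rw [← QuotientGroup.eq_one_iff, ← orderOf_eq_one_iff]
        refine Nat.Coprime.eq_one_of_dvd ?_
          ((_root_.orderOf_dvd_natCard _).trans (dvd_of_eq (show Nat.card (H ⧸ K) = p ^ k from hKk)))
        exact (hz0r.pow_right k).coprime_dvd_left (orderOf_map_dvd (QuotientGroup.mk' K) _)
      exact hex _ hmem hz0m
  · right
    haveI hAn : A.Normal := ⟨fun a ha b => by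
      rw [mem_center_iff.mp (hA ha) b, mul_inv_cancel_right]; exact ha⟩
    have hidxA : A.index = Nat.card P * Nat.card Q := by
      haveI := hN
      rw [← hcard]
      exact (isComplement'_of_disjoint_and_mul_eq_univ (disjoint_iff.mpr hinf)
        (by rw [← normal_mul, hsup, coe_top])).index_eq_card
    haveI := Fact.mk hp
    obtain ⟨i, hi⟩ := IsPGroup.iff_card.mp (P.isPGroup')
    obtain ⟨j, hj⟩ := IsPGroup.iff_card.mp (Q.isPGroup')
    refine ⟨s, hsF.out, hsp, fun r hr hrm => ?_, fun r hr hrp hrs w hw hwr => ?_⟩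
    · have hd : r ∣ p ^ i * s ^ j := by
        rw [← hi, ← hj, ← hidxA]
        exact hrm.trans (hz0m ▸ index_dvd_of_le (fun a ha => mem_centralizer_singleton_iff.mpr
          (mem_center_iff.mp (hA ha) _).symm))
      rcases hr.dvd_mul.mp hd with h | h
      · exact .inl ((Nat.prime_dvd_prime_iff_eq hr hp).mp (hr.dvd_of_dvd_pow h))
      · exact .inr ((Nat.prime_dvd_prime_iff_eq hr hsF.out).mp (hr.dvd_of_dvd_pow h))
    · have hmem : (⟨w, hw⟩ : H) ∈ A := by
        rw [← QuotientGroup.eq_one_iff, ← orderOf_eq_one_iff]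
        refine Nat.Coprime.eq_one_of_dvd ?_
          ((_root_.orderOf_dvd_natCard _).trans (dvd_of_eq hidxA))
        have h1 : orderOf ((⟨w, hw⟩ : H) : H ⧸ A) ∣ orderOf w := by
          rw [show orderOf w = orderOf (⟨w, hw⟩ : H) from orderOf_coe (⟨w, hw⟩ : H)]
          exact orderOf_map_dvd (QuotientGroup.mk' A) _
        rw [hi, hj]
        exact Nat.Coprime.coprime_dvd_left h1 (Nat.Coprime.mul_right
          ((PEl.coprime_p hp hr hrp hwr).pow_right i) ((PEl.coprime_p hsF.out hr hrs hwr).pow_right j))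
      exact fun a ha => mem_C.mpr (congrArg Subtype.val (mem_center_iff.mp (hA hmem) ⟨a, ha⟩))

theorem support_of_pair (hs : Type4 G n m) {p q : ℕ} (hp : p.Prime) (hq : q.Prime) (hpq : p ≠ q)
    {x y : G} (hxp : PEl p x) (hyq : PEl q y) (hx : cl x = n) (hy : cl y = m) (hc : y ∈ C x) :
    ∀ r : ℕ, r.Prime → r ∣ m → r = p ∨ r = q := by
  have hco := PEl.coprime_p hp hq hpq.symm hyq
  have hn : ¬ C x ≤ C y := fun h =>
    hs.not_dvd (hx ▸ hy ▸ cl_dvd_of_le h)
  rcases centralizer_structure hs hp hxp hx hc hco hn with h | ⟨s, -, -, h, h'⟩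
  · exact fun r hr hrm => .inl (h r hr hrm)
  · obtain rfl : q = s := by
      by_contra hne
      exact hn (h' q hq hpq.symm hne y hc hyq)
    exact h

theorem isPrimePow_of_pair (hs : Type4 G n m) {p q : ℕ} (hp : p.Prime) (hq : q.Prime)
    (hpq : p ≠ q) {x y : G} (hxp : PEl p x) (hyq : PEl q y) (hx : cl x = n) (hy : cl y = m)
    (hc : y ∈ C x) : IsPrimePow n ∧ IsPrimePow m := by
  have h1 := support_of_pair hs hp hq hpq hxp hyq hx hy hc
  have h2 := support_of_pair hs.symm hq hp hpq.symm hyq hxp hy hx (C_comm hc)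
  have key : ∀ a b : ℕ, 1 < a → 1 < b → a.Coprime b → (∀ r : ℕ, r.Prime → r ∣ a → r = p ∨ r = q) →
      (∀ r : ℕ, r.Prime → r ∣ b → r = p ∨ r = q) → IsPrimePow a := by
    intro a b ha hb hab hA hB
    rw [isPrimePow_iff_unique_prime_dvd]
    refine ⟨a.minFac, ⟨Nat.minFac_prime (by omega), Nat.minFac_dvd a⟩, fun r hr => ?_⟩
    by_contra hne
    obtain ⟨u, hu, hub⟩ := Nat.exists_prime_and_dvd (show b ≠ 1 by omega)
    have hnd : ∀ v : ℕ, v ∣ a → u = v → False := fun v hv hv' =>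
      hu.ne_one (Nat.dvd_one.mp (hab ▸ Nat.dvd_gcd (hv' ▸ hv) hub))
    rcases hA r hr.1 hr.2 with e1 | e1 <;>
      rcases hA _ (Nat.minFac_prime (by omega : a ≠ 1)) (Nat.minFac_dvd a) with e2 | e2 <;>
      rcases hB u hu hub with e3 | e3 <;>
      first
        | exact hne (e1.trans e2.symm)
        | exact hnd r hr.2 (e3.trans e1.symm)
        | exact hnd _ (Nat.minFac_dvd a) (e3.trans e2.symm)
  exact ⟨key n m hs.one_lt_n hs.one_lt_m hs.coprime (fun r hr h => (h2 r hr h).symm) h1,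
    key m n hs.one_lt_m hs.one_lt_n hs.coprime.symm h1 (fun r hr h => (h2 r hr h).symm)⟩

theorem isPrimePow_of_same (hs : Type4 G n m) {p : ℕ} (hp : p.Prime) {x y : G} (hxp : PEl p x)
    (hyp : PEl p y) (hx : cl x = n) (hy : cl y = m) (hc : y ∈ C x) (hpm : ¬ p ∣ m) :
    IsPrimePow n ∧ IsPrimePow m := by
  obtain ⟨s, hsp', hsm⟩ := Nat.exists_prime_and_dvd (show m ≠ 1 by have := hs.one_lt_m; omega)
  have hsp : s ≠ p := fun h => hpm (h ▸ hsm)
  haveI := Fact.mk hsp'
  have hsn : ¬ s ∣ n := fun h =>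
    hsp'.ne_one (Nat.dvd_one.mp (hs.coprime ▸ Nat.dvd_gcd h hsm))
  obtain ⟨D, hD⟩ := exists_sylowIn (p := s) (C x)
  have hDf : SylowIn s ⊤ D := hD.full (show ¬ s ∣ cl x from hx ▸ hsn)
  obtain ⟨z, hzD, hzc⟩ : ∃ z ∈ D, z ∉ center G := by
    by_contra hall
    push Not at hall
    obtain ⟨y1, hy1⟩ := hs.exists_m
    have h1 : D ≤ C y1 := fun a ha => center_le_C y1 (hall a ha)
    have h2 := card_dvd_of_le h1
    rw [hDf.card, card_top] at h2
    have h3 := (hsp'.pow_dvd_iff_le_factorization Nat.card_pos.ne').mp h2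
    have h4 := fac_C y1 s
    have h5 : 0 < (cl y1).factorization s :=
      hsp'.factorization_pos_of_dvd index_ne_zero_of_finite (show s ∣ cl y1 from hy1 ▸ hsm)
    omega
  have hzx : z ∈ C x := hD.le hzD
  have hzs : PEl s z := PEl.of_mem_pgroup hD.isPGroup hzD
  by_cases hall : ∀ w ∈ C x, (orderOf w).Coprime p → C x ≤ C w
  · have hle := hall z hzx (PEl.coprime_p hp hsp' hsp hzs)
    exact isPrimePow_of_pair hs hsp' hp hsp hzs hyp
      (hs.eq_n_of_dvd hzc (hx ▸ cl_dvd_of_le hle)) hy (hle hc)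
  push Not at hall
  obtain ⟨w0, hw0, hw0r, hw0n⟩ := hall
  obtain ⟨s0, -, -, hm0, -⟩ := (centralizer_structure hs hp hxp hx hw0 hw0r hw0n).resolve_left
    fun h => hsp (h s hsp' hsm)
  have hs0 : s = s0 := (hm0 s hsp' hsm).resolve_left hsp
  have hmpp : IsPrimePow m := by
    rw [isPrimePow_iff_unique_prime_dvd]
    refine ⟨s, ⟨hsp', hsm⟩, fun r hr => ?_⟩
    rcases hm0 r hr.1 hr.2 with h | h
    · exact absurd (h ▸ hr.2) hpm
    · exact h.trans hs0.symm
  by_cases hn : ∀ r : ℕ, r.Prime → r ∣ n → r = p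
  · obtain ⟨r, hr, hrn⟩ := Nat.exists_prime_and_dvd (show n ≠ 1 by have := hs.one_lt_n; omega)
    refine ⟨?_, hmpp⟩
    rw [isPrimePow_iff_unique_prime_dvd]
    exact ⟨r, ⟨hr, hrn⟩, fun u hu => (hn u hu.1 hu.2).trans (hn r hr hrn).symm⟩
  push Not at hn
  obtain ⟨t, ht, htn, htp⟩ := hn
  have hscen : ∀ w ∈ C y, PEl s w → C y ≤ C w := by
    by_cases hall' : ∀ w ∈ C y, (orderOf w).Coprime p → C y ≤ C w
    · exact fun w hw hws => hall' w hw (PEl.coprime_p hp hsp' hsp hws)
    push Not at hall'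
    obtain ⟨w1, hw1, hw1r, hw1n⟩ := hall'
    obtain ⟨s1, -, -, hn1, hcen⟩ := (centralizer_structure hs.symm hp hyp hy hw1 hw1r
      hw1n).resolve_left fun h => htp (h t ht htn)
    intro w hw hws
    refine hcen s hsp' hsp (fun h => ?_) w hw hws
    exact hsn ((h.trans ((hn1 t ht htn).resolve_left htp).symm) ▸ htn)
  by_cases hex : ∃ w ∈ C y, PEl s w ∧ w ∉ center G
  · obtain ⟨w, hw, hws, hwc⟩ := hex
    have hle := hscen w hw hws
    exact isPrimePow_of_pair hs hp hsp' hsp.symm hxp hws hx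
      (hs.symm.eq_n_of_dvd hwc (hy ▸ cl_dvd_of_le hle)) (C_comm (hle (C_comm hc)))
  push Not at hex
  exfalso
  have hco : (orderOf x).Coprime (orderOf z) := PEl.coprime hp hsp' hsp.symm hxp hzs
  rcases rel_options hs hx hzx hco with ⟨hle, -⟩ | ⟨-, hnm⟩
  · exact hzc (hex z (C_comm (hle hc)) hzs)
  have hzxz : z ∈ C (x * z) := by
    rw [C_mul (mem_C.mp hzx).symm hco]
    exact ⟨hzx, self_mem_C z⟩
  have hf : (Nat.card (C y)).factorization s = (Nat.card (C (x * z))).factorization s := by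
    have h1 := fac_C y s
    have h2 := fac_C (x * z) s
    rw [hnm, Nat.factorization_mul (by have := hs.one_lt_n; omega) (by have := hs.one_lt_m; omega),
      Finsupp.add_apply, Nat.factorization_eq_zero_of_not_dvd hsn] at h2
    rw [hy] at h1
    omega
  obtain ⟨w, hw, hws, hwc⟩ := exists_noncentral_of_fac (center_le_C (x * z)) hf hzs hzxz hzc
  exact hwc (hex w hw hws)

/-- `n` and `m` are prime powers. -/
theorem isPrimePow_sizes (hs : Type4 G n m) : IsPrimePow n ∧ IsPrimePow m := by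
  obtain ⟨x0, y0, hx0, hy0, hc0⟩ := exists_pair hs
  obtain ⟨p, x, hp, hxp, hlex, hx⟩ := exists_primary_n hs hx0
  obtain ⟨q, y, hq, hyq, hley, hy⟩ := exists_primary_n hs.symm hy0
  have hc : y ∈ C x := C_comm (hley (C_comm (hlex hc0)))
  by_cases hpq : p = q
  · subst hpq
    by_cases hpm : p ∣ m
    · have hpn : ¬ p ∣ n := fun h => hp.ne_one (Nat.dvd_one.mp (hs.coprime ▸ Nat.dvd_gcd h hpm))
      exact (isPrimePow_of_same hs.symm hp hyq hxp hy hx (C_comm hc) hpn).symm
    · exact isPrimePow_of_same hs hp hxp hyq hx hy hc hpm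
  · exact isPrimePow_of_pair hs hp hq hpq hxp hyq hx hy hc

end CfsgLib.ClassSizesNM
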